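import Mathlib
import Groth.Prelude.Def_CoactBr
import Groth.Prelude.Def_GLin2
import Groth.Prelude.Def_RedSub

/-! # The translation coaction of a closed subgroup and the quotient `G → G/H` -/

set_option autoImplicit false

noncomputable section

open CategoryTheory AlgebraicGeometry MonoidalCategory CartesianMonoidalCategory MonObj TensorProduct Limits

namespace HomogQuotLib

universe u

variable {k : Type u} [CommRing k] {AG AH : Type u} [CommRing AG] [HopfAlgebra k AG]
  [CommRing AH] [HopfAlgebra k AH]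

/-- The braided structure on `Spec`, at the spelling `CommRingCat.of k`. -/
local instance : (algSpec (CommRingCat.of k)).Braided := CoactBr.braidedAlgSpecOf k

/-- Right translation by the subgroup, as an algebra map. -/
def transl (ψ : AG →ₐc[k] AH) : AG →ₐ[k] AG ⊗[k] AH :=
  (Algebra.TensorProduct.map (AlgHom.id k AG) (ψ : AG →ₐ[k] AH)).comp (Bialgebra.comulAlgHom k AG)

/-- Right translation by the subgroup, as a comodule. -/
@[reducible] def coact (ψ : AG →ₐc[k] AH) : HopfRep.Comod k AH AG :=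
  GLin.comodAlong ψ (HopfRep.Comod.regular k AG)

theorem coact_apply (ψ : AG →ₐc[k] AH) (x : AG) : (coact ψ).coact x = transl ψ x := by
  show TensorProduct.map LinearMap.id (ψ : AG →ₗ[k] AH) (CoalgebraStruct.comul (R := k) x) =
    Algebra.TensorProduct.map (AlgHom.id k AG) (ψ : AG →ₐ[k] AH) (CoalgebraStruct.comul (R := k) x)
  generalize CoalgebraStruct.comul (R := k) x = z
  induction z with
  | zero => simp
  | add a b ha hb => simp only [map_add, ha, hb]
  | tmul a b => simp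

theorem isCoactAlg (ψ : AG →ₐc[k] AH) :
    @GLin.IsCoactAlg k _ AH _ _ AG _ _ (coact ψ) := by
  letI := coact ψ
  refine ⟨?_, fun f g => ?_⟩
  · exact (coact_apply ψ 1).trans (map_one _)
  · exact (coact_apply ψ _).trans ((map_mul _ f g).trans
      (congrArg₂ (· * ·) (coact_apply ψ f).symm (coact_apply ψ g).symm))

theorem lift_inl_inr :
    lift (CoactBr.pt (Algebra.TensorProduct.includeLeft : AG →ₐ[k] AG ⊗[k] AH))
        (CoactBr.pt (Algebra.TensorProduct.includeRight : AH →ₐ[k] AG ⊗[k] AH)) ≫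
      Functor.LaxMonoidal.μ (algSpec (CommRingCat.of k)) (.op (.of k AG)) (.op (.of k AH)) =
      𝟙 (CoactBr.sp k (AG ⊗[k] AH)) := by
  rw [CoactBr.lift_pt_pt, ← CoactBr.pt_id]
  congr 1
  ext <;> simp

theorem isIso_lift_inl_inr :
    IsIso (lift (CoactBr.pt (Algebra.TensorProduct.includeLeft : AG →ₐ[k] AG ⊗[k] AH))
        (CoactBr.pt (Algebra.TensorProduct.includeRight : AH →ₐ[k] AG ⊗[k] AH))) := by
  have h := lift_inl_inr (k := k) (AG := AG) (AH := AH)
  let e := Functor.Monoidal.μIso (algSpec (CommRingCat.of k)) (Opposite.op (CommAlgCat.of k AG))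
      (Opposite.op (CommAlgCat.of k AH))
  have h' : lift (CoactBr.pt (Algebra.TensorProduct.includeLeft : AG →ₐ[k] AG ⊗[k] AH))
      (CoactBr.pt (Algebra.TensorProduct.includeRight : AH →ₐ[k] AG ⊗[k] AH)) ≫ e.hom =
      𝟙 (CoactBr.sp k (AG ⊗[k] AH)) := h
  refine ⟨⟨e.hom, h', ?_⟩⟩
  exact (cancel_mono e.hom).1 (((Category.assoc _ _ _).trans (congrArg (e.hom ≫ ·) h')).trans
    ((Category.comp_id _).trans (Category.id_comp _).symm))

theorem lift_inl_inr_mul (ψ : AG →ₐc[k] AH) :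
    lift (CoactBr.pt (Algebra.TensorProduct.includeLeft : AG →ₐ[k] AG ⊗[k] AH))
        (CoactBr.pt (Algebra.TensorProduct.includeRight : AH →ₐ[k] AG ⊗[k] AH)) ≫
      (CoactBr.sp k AG ◁ CoactBr.pt (ψ : AG →ₐ[k] AH)) ≫ μ[CoactBr.sp k AG] =
      CoactBr.pt (transl ψ) := by
  rw [lift_whiskerLeft_assoc, ← CoactBr.pt_comp, ← Hom.mul_def, CoactBr.pt_mul_pt]
  congr 1
  apply AlgHom.ext
  intro x
  simp only [transl, AlgHom.comp_apply]
  generalize (Bialgebra.comulAlgHom k AG) x = z
  induction z with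
  | zero => simp
  | add a b ha hb => simp only [map_add, ha, hb]
  | tmul a b => simp

variable {Q : Over (Spec (CommRingCat.of k))} {q : CoactBr.sp k AG ⟶ Q}

theorem pt_inl_comp (ψ : AG →ₐc[k] AH)
    (h : IsPullback (fst (CoactBr.sp k AG) (CoactBr.sp k AH))
      ((CoactBr.sp k AG ◁ CoactBr.pt (ψ : AG →ₐ[k] AH)) ≫ μ[CoactBr.sp k AG]) q q) :
    CoactBr.pt (Algebra.TensorProduct.includeLeft : AG →ₐ[k] AG ⊗[k] AH) ≫ q =
      CoactBr.pt (transl ψ) ≫ q := by
  rw [← lift_inl_inr_mul ψ, Category.assoc, ← h.w, lift_fst_assoc]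

/-- A morphism invariant under translation by the subgroup descends to the quotient. -/
theorem exists_desc (ψ : AG →ₐc[k] AH)
    (hsurj : Surjective q.left) (hflat : Flat q.left) (hfp : LocallyOfFinitePresentation q.left)
    (h : IsPullback (fst (CoactBr.sp k AG) (CoactBr.sp k AH))
      ((CoactBr.sp k AG ◁ CoactBr.pt (ψ : AG →ₐ[k] AH)) ≫ μ[CoactBr.sp k AG]) q q)
    {Z : Scheme.{u}} (e : Spec (CommRingCat.of AG) ⟶ Z)
    (he : Spec.map (CommRingCat.ofHom (transl ψ).toRingHom) ≫ e =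
      Spec.map (CommRingCat.ofHom
        (Algebra.TensorProduct.includeLeftRingHom : AG →+* AG ⊗[k] AH)) ≫ e) :
    ∃ θ : Q.left ⟶ Z, q.left ≫ θ = e := by
  haveI := hsurj; haveI := hflat; haveI := hfp
  haveI : EffectiveEpi q.left := inferInstance
  refine ⟨EffectiveEpi.desc q.left e fun {T} g₁ g₂ hg => ?_, EffectiveEpi.fac q.left _ _⟩
  haveI := isIso_lift_inl_inr (k := k) (AG := AG) (AH := AH)
  haveI : IsIso (lift (CoactBr.pt (Algebra.TensorProduct.includeLeft : AG →ₐ[k] AG ⊗[k] AH))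
      (CoactBr.pt (Algebra.TensorProduct.includeRight : AH →ₐ[k] AG ⊗[k] AH))).left :=
    inferInstanceAs (IsIso ((Over.forget _).map (lift
      (CoactBr.pt (Algebra.TensorProduct.includeLeft : AG →ₐ[k] AG ⊗[k] AH))
      (CoactBr.pt (Algebra.TensorProduct.includeRight : AH →ₐ[k] AG ⊗[k] AH)))))
  have hfst : (fst (CoactBr.sp k AG) (CoactBr.sp k AH)).left ≫ e =
      ((CoactBr.sp k AG ◁ CoactBr.pt (ψ : AG →ₐ[k] AH)) ≫ μ[CoactBr.sp k AG]).left ≫ e := by
    rw [← cancel_epi (lift (CoactBr.pt (Algebra.TensorProduct.includeLeft : AG →ₐ[k] AG ⊗[k] AH))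
        (CoactBr.pt (Algebra.TensorProduct.includeRight : AH →ₐ[k] AG ⊗[k] AH))).left,
      ← Category.assoc, ← Category.assoc, ← Over.comp_left, ← Over.comp_left, lift_fst,
      lift_inl_inr_mul]
    exact he.symm
  have hsq := h.map (Over.forget _)
  obtain ⟨l, hl₁, hl₂⟩ := hsq.exists_lift g₁ g₂ hg
  rw [← hl₁, ← hl₂]
  exact ((Category.assoc _ _ _).trans (congrArg (l ≫ ·) hfst)).trans (Category.assoc _ _ _).symm

end HomogQuotLib

end
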